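import Cfsg.Agent.TH.Ex.Si.Num
import Cfsg.Agent.OrdDiv.Main

/-!
# S3541, `H ⊓ T` almost simple in `F₄, E₆, ²E₆, E₇, E₈`: the tables (helper64)
-/

set_option autoImplicit false

namespace Cfsg.Agent.TH.Ex.Si

open Cfsg.Agent.H902 Cfsg.Agent.H290.ElTab Cfsg.Agent.H252.EN

/-- the degree of the adjoint representation -/
def dim : Art.Sh → ℕ
  | .F4 => 52
  | .E7 => 133
  | .E8 => 248
  | _ => 78

/-- a bound for the degrees of the alternating subgroups -/
def alt : Art.Sh → ℕ
  | .F4 => 11
  | .E7 => 14
  | .E8 => 18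
  | _ => 12

/-- the groups of Lie type -/
def chkL (Y : Art.Sh) : Bool :=
  (reg (dim Y)).all fun x => chkT Y (od x.1 x.2.1 x.2.2) x.2.1 (ouN x.1 x.2.1 x.2.2) 1

/-- the alternating groups -/
def chkA (Y : Art.Sh) : Bool :=
  (List.range (alt Y + 1)).all fun n => Nat.blt n 5 || chkT Y (n.factorial / 2) 0 (if n = 6 then 4 else 2) 1

/-- the order of the Monster -/
def oM : ℕ := 808017424794512875886459904961710757005754368000000000

/-- the indices which are left: the Tits group, `He`, `Suz` -/
def left (t : ℕ) : ℕ := if t = 17971200 ∨ t = 448345497600 then 65 else if t = 4030387200 then 49 else 1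

/-- the sporadic groups and the Tits group -/
def chkS (Y : Art.Sh) : Bool :=
  Cfsg.Agent.OrdDiv.spor.all fun x => chkT Y x.2 0 (if x.2 = oM then 1 else 2) (left x.2)

theorem chkL_F4 : chkL .F4 = true := by decide +kernel
theorem chkL_E6 : chkL .E6 = true := by decide +kernel
theorem chkL_TE6 : chkL .TE6 = true := by decide +kernel
theorem chkL_E7 : chkL .E7 = true := by decide +kernel
theorem chkL_E8 : chkL .E8 = true := by decide +kernel
theorem chkA_all : (Zs.all chkA) = true := by decide +kernel
theorem chkS_F4 : chkS .F4 = true := by decide +kernel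
theorem chkS_E6 : chkS .E6 = true := by decide +kernel
theorem chkS_TE6 : chkS .TE6 = true := by decide +kernel
theorem chkS_E7 : chkS .E7 = true := by decide +kernel
theorem chkS_E8 : chkS .E8 = true := by decide +kernel

theorem chk_all {Y : Art.Sh} (hY : Y ∈ Zs) : chkL Y = true ∧ chkA Y = true ∧ chkS Y = true := by
  refine ⟨?_, List.all_eq_true.1 chkA_all Y hY, ?_⟩ <;>
    simp only [Zs, List.mem_cons, List.not_mem_nil, or_false] at hY <;> rcases hY with rfl | rfl | rfl | rfl | rfl
  exacts [chkL_F4, chkL_E6, chkL_TE6, chkL_E7, chkL_E8, chkS_F4, chkS_E6, chkS_TE6, chkS_E7, chkS_E8]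

end Cfsg.Agent.TH.Ex.Si
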