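import Cfsg.Agent.TH.Ex.Si.Tab
import Cfsg.Agent.SB.Exc.CI.Main
import Cfsg.Agent.H889.Enum.Glue
import Cfsg.Agent.H934.HeisF4Even
import Cfsg.Agent.H934.HeisE7
import Cfsg.Agent.H934.HeisE8
import Cfsg.Agent.H934.HeisTwE6
import Cfsg.Agent.S2227

/-!
# S3541, the groups `F₄, E₆, ²E₆, E₇, E₈`: orders, centralizers, indices (helper64)

`Dat Y p f T`; `dat_F4`, `dat_E6`, `dat_E7`, `dat_E8`, `dat_TE6`.
-/

set_option autoImplicit false

namespace Cfsg.Agent.TH.Ex.Si

open Cfsg Cfsg.Lie Cfsg.Agent.H902 Cfsg.Agent.H290.ElReg Cfsg.Agent.H889.Enum Cfsg.Agent.H316.U6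
open Cfsg.Agent.ChevalleyStructure Cfsg.Agent.ChevalleyStructure.CoxeterGeomTypes Cfsg.Agent.Nodes.RGDChev
  Cfsg.Agent.DS.Ex
open Subgroup (centralizer mem_centralizer_singleton_iff)

theorem card_cent_le {K Y : Type*} [Group K] [Group Y] {ι : K →* Y} (hι : Function.Injective ι) (S : Subgroup Y)
    [Finite S] (h : ∀ a, ι a ∈ S) (x : K) :
    Nat.card (centralizer ({x} : Set K)) ≤ Nat.card ↥(S ⊓ centralizer {ι x}) := by
  have : Finite ↥(S ⊓ centralizer {ι x}) := Finite.of_injective _ (Subgroup.inclusion_injective inf_le_left)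
  refine Nat.card_le_card_of_injective (fun c => ⟨ι c, h c, mem_centralizer_singleton_iff.2 ?_⟩) fun a b hab =>
    Subtype.ext (hι (congrArg Subtype.val hab))
  rw [← map_mul, ← map_mul, mem_centralizer_singleton_iff.1 c.2]

/-- the centralizers of the semisimple elements of prime order -/
theorem cent_le {D : ChevalleyDatum} {l : ℕ} {M : CoxeterMatrix (Fin l)} {hp : IsType D l M} (hD : Typ D) {p q : ℕ}
    [Fact p.Prime] {K : Type} [Group K] (m : MData hp p q K) {x : K} (h1 : (orderOf x).Prime) (h2 : orderOf x ≠ p) :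
    Nat.card (centralizer ({x} : Set K)) ≤ SB.Exc.bI l p q := by
  have h3 : orderOf (m.ι x) = orderOf x := orderOf_injective _ m.inj x
  have h4 := SB.Exc.boxCI D l M hp hD p m.e m.σ m.g m.he m.frob m.fr (m.ι x) (m.fix x) (h3 ▸ h1) (h3 ▸ h2)
  rw [m.hq] at h4
  have : Finite (DL.fix m.σ) := m.fin
  exact (card_cent_le m.inj (DL.fix m.σ) m.fix x).trans h4

/-- what is used about the socle -/
structure Dat (Y : Art.Sh) (p f : ℕ) (T : Type) [Group T] : Prop where
  mem : Y ∈ Zs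
  real : Art.Real Y p f (Nat.card T)
  cent : ∀ x : T, (orderOf x).Prime → orderOf x ≠ p →
    Nat.card (centralizer ({x} : Set T)) ≤ bS Y (p ^ f) (orderOf x)
  idx : ∀ M : Subgroup T, M ≠ ⊤ → (p ^ f) ^ e1 Y ≤ M.index
  fth : ∃ (F : Type) (_ : Field F) (_ : CharP F p), Fth (dim Y) F T
  alt : ∀ (N : Type) [Group N] (i : N →* T), Function.Injective i → ∀ n,
    Nonempty (N ≃* alternatingGroup (Fin n)) → n ≤ alt Y

theorem Dat.congr {Y : Art.Sh} {p f : ℕ} {T K : Type} [Group T] [Finite T] [Group K] (e : T ≃* K) (h : Dat Y p f K) :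
    Dat Y p f T where
  mem := h.mem
  real := Nat.card_congr e.toEquiv ▸ h.real
  cent x h1 h2 := by
    have : Finite K := Finite.of_equiv _ e.toEquiv
    have h3 : orderOf (e x) = orderOf x := e.orderOf_eq x
    have h4 := card_cent_le (ι := e.toMonoidHom) e.injective ⊤ (fun _ => trivial) x
    rw [top_inf_eq] at h4
    exact h4.trans (h3 ▸ h.cent (e x) (h3 ▸ h1) (h3 ▸ h2))
  idx M hM := by
    rw [← Subgroup.index_map_of_bijective (f := e.toMonoidHom) e.bijective M]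
    refine h.idx _ fun h1 => hM ?_
    rw [← Subgroup.comap_map_eq_self_of_injective (f := e.toMonoidHom) e.injective M, h1, Subgroup.comap_top]
  fth := by
    obtain ⟨F, i1, i2, h1⟩ := h.fth
    exact ⟨F, i1, i2, h1.congr e.symm⟩
  alt N _ i hi := h.alt N (e.toMonoidHom.comp i) (e.injective.comp hi)

theorem le_of_sq {a b k : ℕ} (h : a ^ (2 * k) ≤ b ^ 2) : a ^ k ≤ b := by
  rw [mul_comm, pow_mul] at h
  exact (Nat.pow_le_pow_iff_left two_ne_zero).1 h

theorem ne_of_rank {D D' : ChevalleyDatum} (h : D.nroots ≠ D'.nroots) : D ≠ D' := fun h1 => h (h1 ▸ rfl)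

theorem bS_eq {Y : Art.Sh} (h : Y ≠ .TE6) (q s : ℕ) : bS Y q s = bY Y q := if_neg fun h1 => h h1.1

section models

variable {F : Type} [Field F] [Fintype F] {p : ℕ} [hp : Fact p.Prime] [CharP F p]

theorem dat_F4 (hs : IsSimpleGroup ↥(chevF4.group F)) : ∃ f, Dat .F4 p f ↥(chevF4.group F) := by
  obtain ⟨f, hf, hF⟩ := exists_card F p
  obtain ⟨m, -⟩ := mdata_untw (r := p) hpF4 (ne_of_rank (by decide)) (ne_of_rank (by decide)) F
  have h2 : p ^ f % 2 = 0 ↔ p = 2 := by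
    rw [← Nat.dvd_iff_mod_eq_zero, Nat.prime_two.prime.dvd_pow_iff_dvd (by omega : f ≠ 0),
      Nat.prime_dvd_prime_iff_eq Nat.prime_two hp.out, eq_comm]
  refine ⟨f, by decide, real_f4 hf hF, fun x h1 h3 => ?_, fun M hM => ?_, ⟨F, _, inferInstance, fth_f4 F⟩,
    fun N _ i hi n hn => (alt_le_f4 (p := p) hi hn).trans (by split_ifs <;> decide)⟩
  · refine (cent_le (Or.inl rfl) m h1 h3).trans (le_of_eq ?_)
    rw [bS_eq (by decide), hF]
    show (if p = 2 then (p ^ f) ^ 18 else (p ^ f) ^ 32) * _ = (p ^ f) ^ (if p ^ f % 2 = 0 then 18 else 32) * _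
    by_cases h4 : p = 2
    · rw [if_pos h4, if_pos (h2.2 h4)]
    · rw [if_neg h4, if_neg (mt h2.1 h4)]
  · rw [← hF]
    by_cases h4 : p = 2
    · subst h4
      have h5 := H934.HeisF4Even.main hs M hM
      have h6 : 2 ^ 3 ≤ Fintype.card F ^ 3 := Nat.pow_le_pow_left Fintype.one_lt_card 3
      have h7 : Fintype.card F ^ 8 * 2 ≤ Fintype.card F ^ 8 * (Fintype.card F ^ 3 - 1) :=
        Nat.mul_le_mul_left _ (by omega)
      show Fintype.card F ^ 8 ≤ _
      omega
    · refine le_of_sq (H934.HeisF4G2.sq_le_F4 (fun h5 => h4 ?_) hs M hM)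
      exact (Nat.prime_dvd_prime_iff_eq hp.out Nat.prime_two).1 ((CharP.cast_eq_zero_iff F p 2).1 (by exact_mod_cast h5))

theorem dat_E6 (hs : IsSimpleGroup ↥(chevE6.group F)) : ∃ f, Dat .E6 p f ↥(chevE6.group F) := by
  obtain ⟨f, hf, hF⟩ := exists_card F p
  obtain ⟨m, -⟩ := mdata_untw (r := p) hpE6 (ne_of_rank (by decide)) (ne_of_rank (by decide)) F
  refine ⟨f, by decide, real_e6 hf hF, fun x h1 h3 => ?_, fun M hM => ?_, ⟨F, _, inferInstance, fth_e6 F⟩,
    fun N _ i hi n hn => (alt_le_e6 (p := p) hi hn).trans (by split_ifs <;> decide)⟩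
  · rw [bS_eq (by decide), ← hF]
    exact cent_le (Or.inr (Or.inl rfl)) m h1 h3
  · have h5 := H934.HeisE6.two_mul_le hs M hM
    rw [← hF]
    show Fintype.card F ^ 11 ≤ _
    omega

theorem dat_E7 (hs : IsSimpleGroup ↥(chevE7.group F)) : ∃ f, Dat .E7 p f ↥(chevE7.group F) := by
  obtain ⟨f, hf, hF⟩ := exists_card F p
  obtain ⟨m, -⟩ := mdata_untw (r := p) hpE7 (ne_of_rank (by decide)) (ne_of_rank (by decide)) F
  refine ⟨f, by decide, real_e7 hf hF, fun x h1 h3 => ?_, fun M hM => ?_, ⟨F, _, inferInstance, fth_e7 F⟩,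
    fun N _ i hi n hn => (alt_le_e7 (p := p) hi hn).trans (by split_ifs <;> decide)⟩
  · rw [bS_eq (by decide), ← hF]
    exact cent_le (Or.inr (Or.inr (Or.inl rfl))) m h1 h3
  · have h5 := H934.HeisE7.two_mul_le hs M hM
    rw [← hF]
    show Fintype.card F ^ 17 ≤ _
    omega

theorem dat_E8 (hs : IsSimpleGroup ↥(chevE8.group F)) : ∃ f, Dat .E8 p f ↥(chevE8.group F) := by
  obtain ⟨f, hf, hF⟩ := exists_card F p
  obtain ⟨m, -⟩ := mdata_untw (r := p) hpE8 (ne_of_rank (by decide)) (ne_of_rank (by decide)) F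
  refine ⟨f, by decide, real_e8 hf hF, fun x h1 h3 => ?_, fun M hM => ?_, ⟨F, _, inferInstance, fth_e8 F⟩,
    fun N _ i hi n hn => (alt_le_e8 (p := p) hi hn).trans (by split_ifs <;> decide)⟩
  · rw [bS_eq (by decide), ← hF]
    exact cent_le (Or.inr (Or.inr (Or.inr rfl))) m h1 h3
  · have h5 := H934.HeisE8.two_mul_le hs M hM
    rw [← hF]
    show Fintype.card F ^ 29 ≤ _
    omega

theorem card_five : Nat.card (Multiplicative (ZMod 5) × ↥(alternatingGroup (Fin 8))) = 100800 := by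
  have h := card_alt (n := 8) (by norm_num)
  rw [Nat.card_prod, Nat.card_congr Multiplicative.toAdd, Nat.card_zmod]
  rw [show Nat.factorial 8 = 40320 by decide] at h
  omega

theorem dat_TE6 {q : ℕ} (hq : IsPrimePow q) (hF : Fintype.card F = q ^ 2) (hs : IsSimpleGroup ↥(twistedE6 F q)) :
    ∃ f, Dat .TE6 p f ↥(twistedE6 F q) := by
  obtain ⟨m⟩ := mdata_twE6 (r := p) hq hF
  have h0 := H934.HeisTwE6.bound_2E6 hq hF hs
  obtain ⟨f, hf, rfl⟩ := exists_pow (p := p) two_ne_zero hq hF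
  refine ⟨f, by decide, real_te6 hf hF, fun x h1 h3 => ?_, fun M hM => le_of_sq (h0 M hM),
    ⟨F, _, inferInstance, fth_te6 F _⟩,
    fun N _ i hi n hn => (alt_le_te6 hf hF hi hn).trans (by split_ifs <;> decide)⟩
  unfold bS
  split_ifs with h4
  · obtain ⟨-, h5, h6⟩ := h4
    revert x
    rw [h5] at hF ⊢
    intro x _ _ h6
    obtain ⟨e⟩ := (S2227.result hF).2 x h6
    rw [Nat.card_congr e.toEquiv, card_five]
  · exact cent_le (Or.inr (Or.inl rfl)) m h1 h3

end models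

end Cfsg.Agent.TH.Ex.Si
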