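import Cfsg.Agent.H933.TitsBN
import Cfsg.Agent.H679.SpHe
import Cfsg.Agent.H33.RCSuz.MTw
import Cfsg.Agent.NotCT.Orders

/-!
# S3541: three indices which do not occur (helper64)

No proper subgroup of the Tits group or of `Suz` has index dividing 65, no proper subgroup of `He` has index dividing 49.
-/

set_option autoImplicit false

namespace Cfsg.Agent.TH.Ex.Si

open Cfsg Subgroup

section gen

variable {X : Type*} [Group X] [Finite X]

/-- a simple group acts faithfully on the cosets of a proper subgroup -/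
theorem card_dvd_factorial [IsSimpleGroup X] {U : Subgroup X} (hU : U ≠ ⊤) : Nat.card X ∣ U.index.factorial := by
  have h1 : U.normalCore = ⊥ := (U.normalCore_normal.eq_bot_or_eq_top).resolve_right fun h =>
    hU (top_le_iff.1 (h ▸ U.normalCore_le))
  rw [normalCore_eq_ker, MonoidHom.ker_eq_bot_iff] at h1
  have h2 := card_dvd_of_injective _ h1
  rwa [Nat.card_perm] at h2

/-- the automiser of a subgroup of prime order -/
theorem card_normalizer_dvd {s : ℕ} (hs : s.Prime) {P : Subgroup X} (hP : Nat.card P = s) :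
    Nat.card (normalizer (P : Set X)) ∣
      Nat.card ((centralizer (P : Set X)).subgroupOf (normalizer (P : Set X))) * (s - 1) := by
  have := Fact.mk hs
  have := isCyclic_of_prime_card hP
  rw [← P.normalizerMonoidHom.ker.card_mul_index, normalizerMonoidHom_ker, ← normalizerMonoidHom_ker, index_ker,
    ← Nat.totient_prime hs, ← hP, ← IsCyclic.card_mulAut]
  exact Nat.mul_dvd_mul_left _ (card_subgroup_dvd_card _)

/-- the elements of order `s` are self-centralising -/
def SC (s : ℕ) (X : Type*) [Group X] : Prop := ∀ x : X, orderOf x = s → ∀ c, c * x = x * c → c ∈ zpowers x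

omit [Finite X] in
theorem SC.sub {s : ℕ} (h : SC s X) (U : Subgroup X) : SC s U := fun x hx c hc => by
  obtain ⟨k, hk⟩ := h x (by rw [orderOf_coe, hx]) c (congrArg Subtype.val hc)
  exact ⟨k, Subtype.ext hk⟩

omit [Finite X] in
theorem SC.congr {s : ℕ} {Y : Type*} [Group Y] (h : SC s Y) (e : X ≃* Y) : SC s X := fun x hx c hc => by
  obtain ⟨k, hk⟩ := h (e x) (by rw [e.orderOf_eq, hx]) (e c) (by rw [← map_mul, ← map_mul, hc])
  exact ⟨k, e.injective (by rw [← hk]; exact map_zpow e x k)⟩

theorem SC.cent_le {s : ℕ} (hs : s.Prime) (h : SC s X) {P : Subgroup X} (hP : Nat.card P = s) :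
    centralizer (P : Set X) ≤ P := by
  have := Fact.mk hs
  obtain ⟨x, hx⟩ := exists_prime_orderOf_dvd_card' (G := P) s (hP ▸ dvd_rfl)
  intro c hc
  exact (zpowers_le.2 x.2) (h x (by rw [orderOf_coe, hx]) c (mem_centralizer_iff.1 hc x x.2).symm)

theorem card_sylow {s : ℕ} [hs : Fact s.Prime] (h1 : s ∣ Nat.card X) (h2 : ¬ s ^ 2 ∣ Nat.card X) (P : Sylow s X) :
    Nat.card P = s := by
  have h3 := (hs.out.dvd_iff_one_le_factorization Nat.card_pos.ne').1 h1
  have h4 := mt (hs.out.pow_dvd_iff_le_factorization Nat.card_pos.ne').2 h2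
  rw [P.card_eq_multiplicity, show (Nat.card X).factorization s = 1 by omega, pow_one]

/-- the order of the normaliser of a self-centralising Sylow subgroup of prime order -/
theorem SC.norm {s : ℕ} [hs : Fact s.Prime] (h : SC s X) (P : Sylow s X) (hP : Nat.card P = s) :
    Nat.card (normalizer ((P : Subgroup X) : Set X)) ∣ s * (s - 1) ∧
      Nat.card (normalizer ((P : Subgroup X) : Set X)) ∣ Nat.card X ∧
      Nat.card X / Nat.card (normalizer ((P : Subgroup X) : Set X)) % s = 1 := by
  refine ⟨(card_normalizer_dvd hs.out hP).trans (Nat.mul_dvd_mul_right ?_ _), card_subgroup_dvd_card _, ?_⟩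
  · rw [Nat.card_congr (subgroupOfEquivOfLe (centralizer_le_normalizer _)).toEquiv]
    exact (card_dvd_of_le (h.cent_le hs.out hP)).trans (dvd_of_eq hP)
  · have h1 := card_sylow_modEq_one s X
    rw [P.card_eq_index_normalizer] at h1
    rw [← (normalizer ((P : Subgroup X) : Set X)).card_mul_index, Nat.mul_div_cancel_left _ Nat.card_pos]
    exact Eq.trans h1 (Nat.mod_eq_of_lt hs.out.one_lt)

/-- Burnside and Frattini -/
theorem SC.dvd_sub_one {s r : ℕ} [hs : Fact s.Prime] [hr : Fact r.Prime] (h : SC s X) (P : Sylow s X)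
    (hP : Nat.card P = s) (hN : Nat.card (normalizer ((P : Subgroup X) : Set X)) = s) (hrs : r ≠ s)
    (h1 : r ∣ Nat.card X) (h2 : ¬ r ^ 2 ∣ Nat.card X) : s ∣ r - 1 := by
  have h3 : normalizer ((P : Subgroup X) : Set X) = P :=
    (eq_of_le_of_card_ge le_normalizer (by rw [hN, hP])).symm
  have h4 : normalizer (P : Set X) ≤ centralizer (P : Set X) := by
    have := isCyclic_of_prime_card hP
    show normalizer ((P : Subgroup X) : Set X) ≤ centralizer ((P : Subgroup X) : Set X)
    rw [h3]
    exact le_centralizer _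
  have h5 := MonoidHom.ker_transferSylow_isComplement' P h4
  generalize hK : (MonoidHom.transferSylow P h4).ker = K at h5
  have hn : K.Normal := hK ▸ MonoidHom.normal_ker _
  have h6 : K.index = s := h5.symm.index_eq_card.trans hP
  obtain ⟨Q⟩ : Nonempty (Sylow r X) := inferInstance
  have hQ := card_sylow h1 h2 Q
  have h7 : (Q : Subgroup X) ≤ K := fun y hy => by
    have h8 : y ^ s ∈ K := h6 ▸ K.pow_index_mem y
    have h9 : y ^ r = 1 := by
      have := pow_card_eq_one' (G := Q) (x := ⟨y, hy⟩)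
      rw [hQ] at this
      exact congrArg Subtype.val this
    have h10 : Nat.Coprime (orderOf y) s :=
      ((Nat.coprime_primes hr.out hs.out).2 hrs).coprime_dvd_left (orderOf_dvd_of_pow_eq_one h9)
    obtain ⟨j, hj⟩ := exists_pow_eq_self_of_coprime h10.symm
    exact hj ▸ K.pow_mem h8 j
  have h8 : s ∣ Nat.card (normalizer ((Q : Subgroup X) : Set X)) := by
    have h9 := relIndex_sup_right (normalizer ((Q : Subgroup X) : Set X)) K
    rw [show normalizer ((Q : Subgroup X) : Set X) ⊔ K = ⊤ from Q.normalizer_sup_eq_top' h7, relIndex_top_right,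
      h6] at h9
    rw [h9]
    exact relIndex_dvd_card _ _
  refine ((Nat.Prime.dvd_mul hs.out).1 (h8.trans (card_normalizer_dvd hr.out hQ))).resolve_left fun h9 => ?_
  rw [Nat.card_congr (subgroupOfEquivOfLe (centralizer_le_normalizer _)).toEquiv] at h9
  obtain ⟨x, hx⟩ := exists_prime_orderOf_dvd_card' s h9
  have h10 : (Q : Subgroup X) ≤ zpowers (x : X) := fun y hy =>
    h x (by rw [orderOf_coe, hx]) y (mem_centralizer_iff.1 x.2 y hy)
  have h11 := card_dvd_of_le h10
  rw [hQ, Nat.card_zpowers, orderOf_coe, hx] at h11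
  exact hrs ((Nat.prime_dvd_prime_iff_eq hr.out hs.out).1 h11)

end gen

variable {X : Type*} [Group X] [Finite X] [IsSimpleGroup X] {U : Subgroup X}

omit [Finite X] [IsSimpleGroup X] in
theorem no_tits (h : Lie.IsoTits X) (hU : U ≠ ⊤) (hd : U.index ∣ 65) : False := by
  have h1 := U.card_mul_index
  rw [NotCT.Orders.tits h] at h1
  have h2 := Nat.le_of_dvd (by norm_num) hd
  have h3 : Nat.card U ≤ 10240 := by
    rcases (H933.TitsBN.odd2_tits h).1 U hU (fun h4 => by have := h4.trans hd; omega) with h4 | h4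
    · exact (Nat.le_of_dvd (by norm_num) h4).trans (by norm_num)
    · exact (Nat.le_of_dvd (by norm_num) h4).trans (by norm_num)
  have := Nat.mul_le_mul h3 h2
  omega

theorem sc_he : SC 17 Spor.He := fun x hx c hc => by
  have : Finite Spor.He :=
    Nat.finite_of_card_ne_zero (by rw [NotCT.Orders.he (K := Spor.He) ⟨MulEquiv.refl _⟩]; norm_num)
  have h1 : zpowers x ≤ centralizer {x} := zpowers_le.2 (mem_centralizer_singleton_iff.2 rfl)
  rw [eq_of_le_of_card_ge h1 (by rw [Nat.card_zpowers, hx]; exact H679.SpHe.card_cent_of hx)]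
  exact mem_centralizer_singleton_iff.2 hc

theorem no_he (h : Spor.IsoHe X) (hU : U ≠ ⊤) (hd : U.index ∣ 49) : False := by
  have h0 := NotCT.Orders.he h
  have h1 := U.card_mul_index
  have h2 := card_dvd_factorial hU
  rw [h0] at h1 h2
  have h3 : ∀ j ∈ Nat.divisors 49, 4030387200 ∣ j.factorial → j = 49 := by decide +kernel
  rw [h3 _ (Nat.mem_divisors.2 ⟨hd, by norm_num⟩) h2] at h1
  have h4 : Nat.card U = 82252800 := by omega
  obtain ⟨e⟩ := h
  have := Fact.mk (show Nat.Prime 17 by norm_num)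
  obtain ⟨P⟩ : Nonempty (Sylow 17 U) := inferInstance
  obtain ⟨h5, -, h6⟩ := ((sc_he.congr e).sub U).norm P (card_sylow (by rw [h4]; norm_num) (by rw [h4]; norm_num) P)
  have h7 : ∀ j ∈ Nat.divisors 272, 82252800 / j % 17 ≠ 1 := by decide +kernel
  rw [h4] at h6
  exact h7 _ (Nat.mem_divisors.2 ⟨h5, by norm_num⟩) h6

theorem no_suz (h : Spor.IsoSuz X) (hU : U ≠ ⊤) (hd : U.index ∣ 65) : False := by
  have h0 := NotCT.Orders.suz h
  have h1 := U.card_mul_index
  have h2 := card_dvd_factorial hU
  rw [h0] at h1 h2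
  have h3 : ∀ j ∈ Nat.divisors 65, 448345497600 ∣ j.factorial → j = 65 := by decide +kernel
  rw [h3 _ (Nat.mem_divisors.2 ⟨hd, by norm_num⟩) h2] at h1
  have h4 : Nat.card U = 6897623040 := by omega
  obtain ⟨e⟩ := h
  have := Fact.mk (show Nat.Prime 11 by norm_num)
  have := Fact.mk (show Nat.Prime 7 by norm_num)
  obtain ⟨P⟩ : Nonempty (Sylow 11 U) := inferInstance
  have hs : SC 11 U := (SC.congr (fun _ hx => H33.RCSuz.cent11 hx) e).sub U
  have hP := card_sylow (by rw [h4]; norm_num) (by rw [h4]; norm_num) P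
  obtain ⟨h5, -, h6⟩ := hs.norm P hP
  have h7 : ∀ j ∈ Nat.divisors 110, 6897623040 / j % 11 = 1 → j = 11 := by decide +kernel
  rw [h4] at h6
  have h8 := hs.dvd_sub_one (r := 7) P hP (h7 _ (Nat.mem_divisors.2 ⟨h5, by norm_num⟩) h6) (by norm_num)
    (by rw [h4]; norm_num) (by rw [h4]; norm_num)
  norm_num at h8

end Cfsg.Agent.TH.Ex.Si
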