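import Cfsg.Agent.TH.Ex.Si.Cls
import Cfsg.Agent.TH.Ex.Si.Spec
import Cfsg.Agent.TH.Ex1.Enum
import Cfsg.Agent.TH.Sv.Nec
import Cfsg.Agent.TH.Cl.Cases.Sim
import Cfsg.Agent.S2085

/-!
# S3541, `H ⊓ T` almost simple in `F₄, E₆, ²E₆, E₇, E₈` (helper64)

`noSi_F4`, `noSi_E6`, `noSi_E7`, `noSi_E8`, `noSi_2E6`.
-/

set_option autoImplicit false

namespace Cfsg.Agent.TH.Ex.Si

open Cfsg Subgroup Cfsg.Agent.H902 Cfsg.Agent.OrdDiv Cfsg.Agent.H290.ElTab Cfsg.Agent.H252.EN Cfsg.Agent.H889.Enum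

/-- the number of elements of prime order `s` if the Sylow subgroups have order `s` -/
theorem ncard_ord_le {X : Type*} [Group X] [Finite X] {s : ℕ} (hs : s.Prime) (h1 : s ∣ Nat.card X)
    (h2 : ¬ s ^ 2 ∣ Nat.card X) : {x : X | orderOf x = s}.ncard ≤ Nat.card X - Nat.card X / s := by
  have := Fact.mk hs
  obtain ⟨P⟩ : Nonempty (Sylow s X) := inferInstance
  have h3 := Sv.cover_le (A := {x : X | orderOf x = s}) (B := (Set.univ : Set (Sylow s X))) (Set.toFinite _)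
    (Set.toFinite _) (fun x Q => x ∈ (Q : Subgroup X)) (k := s - 1)
    (fun x hx => by
      obtain ⟨Q, hQ⟩ := (IsPGroup.of_card (n := 1) (by rw [Nat.card_zpowers, pow_one]; exact hx) :
        IsPGroup s (zpowers x)).exists_le_sylow
      exact ⟨Q, trivial, hQ (mem_zpowers x)⟩)
    fun Q _ => by
      refine (Set.ncard_le_ncard (t := ((Q : Subgroup X) : Set X) \ {1}) (fun x hx => ⟨hx.2, fun h4 => ?_⟩)
        (Set.toFinite _)).trans ((Set.ncard_sdiff_singleton_of_mem (Q : Subgroup X).one_mem).trans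
          (congrArg (· - 1) (card_sylow h1 h2 Q))).le
      have h5 : orderOf x = s := hx.1
      rw [show x = 1 from h4, orderOf_one] at h5
      exact hs.one_lt.ne h5
  have h4 := (P : Subgroup X).card_mul_index
  rw [card_sylow h1 h2 P] at h4
  have h5 := Nat.le_of_dvd (Nat.pos_of_ne_zero index_ne_zero_of_finite) P.card_dvd_index
  rw [Set.ncard_univ] at h3
  rw [← h4, Nat.mul_div_cancel_left _ hs.pos, ← Nat.sub_one_mul, mul_comm]
  exact h3.trans (Nat.mul_le_mul_right _ h5)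

variable {G : Type} [Group G] [Finite G] {T H N : Subgroup G} {m p f k : ℕ} {Y : Art.Sh}

theorem ncard_cls_le (hT : AS T) {x : G} (hx : x ∈ T) : (clsIn T H x).ncard ≤ Nat.card ↥(H ⊓ T) :=
  Set.ncard_le_ncard (s := clsIn T H x) (t := (H ⊓ T : Subgroup G)) (by
    rintro _ ⟨h4, t, ht, rfl⟩
    exact ⟨h4, hT.normal.conj_mem' _ hx t⟩) (Set.toFinite _)

theorem ncard_cls_le_cnt (hT : AS T) (h : Sim T H N) (hk : Nat.card ↥(H ⊓ T) = Nat.card N * k) {s : ℕ} (hs : s.Prime)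
    {x : N} (hx : orderOf x = s) : (clsIn T H x).ncard ≤ cnt (Nat.card N) k s := by
  unfold cnt
  split_ifs with h1 h2
  · exact hk ▸ ncard_cls_le hT (h.le x.2).2
  all_goals
    have h3 : (clsIn T H x).ncard ≤ {z : N | orderOf z = s}.ncard := by
      rw [← Set.ncard_image_of_injective _ N.subtype_injective]
      refine Set.ncard_le_ncard ?_ (Set.toFinite _)
      rintro _ ⟨h4, t, ht, rfl⟩
      have h5 : orderOf (t⁻¹ * x * t) = s := by
        rw [← hx, ← orderOf_coe]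
        exact (SemiconjBy.orderOf_eq t (show t * (t⁻¹ * x * t) = x * t by group))
      have h6 : (N.subgroupOf (H ⊓ T)).Normal :=
        normal_subgroupOf_of_le_normalizer (le_normalizer_of_conj fun a ha => h.nrm a ha.1)
      have h7 := (N.subgroupOf (H ⊓ T)).card_mul_index
      rw [Nat.card_congr (subgroupOfEquivOfLe h.le).toEquiv, hk] at h7
      have h8 : (t⁻¹ * x * t) ^ k ∈ N := Nat.eq_of_mul_eq_mul_left Nat.card_pos h7 ▸
        (N.subgroupOf (H ⊓ T)).pow_index_mem ⟨_, h4, hT.normal.conj_mem' _ (h.le x.2).2 t⟩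
      obtain ⟨j, hj⟩ := exists_pow_eq_self_of_coprime (x := t⁻¹ * x * t) (n := k) (by
        rw [h5]
        exact (hs.coprime_iff_not_dvd.2 fun h9 => h1 (Nat.mod_eq_zero_of_dvd h9)).symm)
      have h9 := N.pow_mem h8 j
      rw [hj] at h9
      exact ⟨⟨t⁻¹ * x * t, h9⟩, (orderOf_coe _).symm.trans h5, rfl⟩
  · exact h3.trans (Set.ncard_le_card _)
  · exact h3.trans (ncard_ord_le hs (hx ▸ orderOf_dvd_natCard x) fun h4 => h2 (Nat.mod_eq_zero_of_dvd (sq s ▸ h4)))

theorem exists_sub (hH : Half H m) (h : Sim T H N) :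
    ∃ U : Subgroup N, U ≠ ⊤ ∧ U.index ∣ Nat.gcd (Nat.card N) (Nat.card H / m) := by
  have := h.simple
  obtain ⟨g, -, hg⟩ := hH.exists_not_le (N := N) (fun h1 => h.nonab (h1 ▸ inferInstance)) (h.le.trans inf_le_left)
  exact ⟨(cj g H).subgroupOf N, fun h1 => hg (subgroupOf_eq_top.1 h1), Nat.dvd_gcd (index_dvd_card _)
    (hH.relIndex_dvd_d (h.le.trans inf_le_left) (le_normalizer_of_conj h.nrm) g)⟩

theorem Dat.cond (D : Dat Y p f T) (c : LieCtx T H m p) (h : Sim T H N) (hk : Nat.card ↥(H ⊓ T) = Nat.card N * k) :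
    Cond Y p f (Nat.card T) (Nat.card N) k (Nat.card H / m) := by
  have hN := h.simple
  have key : ∀ s, s.Prime → s ∣ Nat.card N → ¬ s ∣ Nat.card H / m → ∃ (x : N) (y : T), (y : G) = x ∧ orderOf x = s ∧
      orderOf y = s ∧ (centralizer {y}).index ≤ Nat.gcd (Nat.card N) (Nat.card H / m) * (clsIn T H x).ncard :=
    fun s hs h1 h2 => by
      have := Fact.mk hs
      obtain ⟨x, hx⟩ := exists_prime_orderOf_dvd_card' s h1
      have h3 := Sv.boxEl G T H N N m s 1 x c.as c.half hs h2 (h.le.trans inf_le_left) h.nrm le_rfl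
        (fun a ha => h.nrm a (h.le ha).1) x.2 (by rw [orderOf_coe, hx, pow_one])
      refine ⟨x, ⟨x, (h.le x.2).2⟩, rfl, hx, by rw [← orderOf_coe, orderOf_coe x, hx], ?_⟩
      rw [show centralizer {(⟨x, (h.le x.2).2⟩ : T)} = (centralizer {(x : G)}).subgroupOf T from Subgroup.ext fun z => by
        rw [mem_subgroupOf, mem_centralizer_singleton_iff, mem_centralizer_singleton_iff, Subtype.ext_iff]; rfl]
      exact h3.trans (Nat.mul_le_mul_right _ (min_le_left _ _))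
  refine ⟨D.real, Nat.card_pos, hk ▸ card_dvd_of_le inf_le_right, ?_, c.not_dvd_d, ?_, fun s hs h1 h2 h3 => ?_,
    fun h1 => ?_⟩
  · rw [← hk, Sv.card_div_eq c.as c.half]
    exact c.half.d_dvd
  · obtain ⟨U, h1, h2⟩ := exists_sub c.half h
    exact (card_dvd_factorial h1).trans
      (Nat.factorial_dvd_factorial (Nat.le_of_dvd (Nat.gcd_pos_of_pos_left _ Nat.card_pos) h2))
  · obtain ⟨x, y, -, h4, h5, h6⟩ := key s hs h1 h2
    have h7 := D.cent y (h5 ▸ hs) (h5 ▸ h3)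
    rw [← (centralizer {y}).index_mul_card]
    exact Nat.mul_le_mul (h6.trans (Nat.mul_le_mul_left _ (ncard_cls_le_cnt c.as h hk hs h4))) (h5 ▸ h7)
  · obtain ⟨x, y, h2, -, h3, h4⟩ := key p c.prime h1 c.not_dvd_d
    refine (D.idx _ fun h5 => ?_).trans (h4.trans (Nat.mul_le_mul_left _ (hk ▸ ncard_cls_le c.as (h.le x.2).2)))
    refine Sv.not_le_centralizer c.as (x := y) (fun h6 => ?_) fun t ht => mem_centralizer_singleton_iff.2
      (congrArg Subtype.val (mem_centralizer_singleton_iff.1 (h5.ge (mem_top (⟨t, ht⟩ : T)))))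
    rw [show y = 1 from Subtype.ext h6, orderOf_one] at h3
    exact c.prime.one_lt.ne h3

theorem prime_of_reg {n : ℕ} {x : Art.Sh × ℕ × ℕ} (hx : x ∈ reg n) : x.2.1.Prime := by
  obtain ⟨X, -, h1⟩ := List.mem_flatMap.1 hx
  obtain ⟨y, h2, rfl⟩ := List.mem_map.1 h1
  obtain ⟨l, h3, h4⟩ := List.mem_flatMap.1 (List.mem_filter.1 (List.mem_filter.1 h2).1).1
  obtain ⟨a, -, rfl⟩ := List.mem_map.1 h4
  exact H290.ElCross.prs_prime l h3

theorem spor_M : ∀ x ∈ spor, x.2 = oM → x.1 = .m := by decide +kernel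

theorem spor_left : ∀ x ∈ spor, left x.2 = 1 ∨ (left x.2 = 65 ∧ (x.1 = .tits ∨ x.1 = .suz)) ∨
    (left x.2 = 49 ∧ x.1 = .he) := by decide +kernel

theorem dim_le (Y : Art.Sh) : dim Y ≤ 248 := by cases Y <;> simp only [dim] <;> omega

theorem Dat.false (D : Dat Y p f T) (c : NCtx T H m p) (h : Sim T H N) : False := by
  have hN := h.simple
  have := Fact.mk c.prime
  have hNT : N ≤ T := h.le.trans inf_le_right
  obtain ⟨k, hk⟩ := card_dvd_of_le h.le
  obtain ⟨U, hU, hd⟩ := exists_sub c.half h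
  have key : ∀ {t l ou J : ℕ}, Nat.card N = t → p ^ f % l ≠ 0 → Nat.card (MulAut N) ∣ ou * t → 0 < ou →
      chkT Y t l ou J = true → U.index ∣ J := fun h1 h2 h3 h4 h5 => by
    subst h1
    exact hd.trans ((D.cond c.toLieCtx h hk).dvd_of_chk D.mem h2
      (Nat.dvd_of_mul_dvd_mul_left Nat.card_pos (hk ▸ mul_comm _ (Nat.card N) ▸ (Ex1.card_dvd_aut h).trans h3)) h4 h5)
  have h0 : p ^ f % 0 ≠ 0 := by
    rw [Nat.mod_zero]
    exact (pow_pos c.prime.pos f).ne'
  have one : ¬ U.index ∣ 1 := fun h1 => hU (index_eq_one.1 (Nat.dvd_one.1 h1))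
  obtain ⟨hL, hA, hS⟩ := chk_all D.mem
  obtain ⟨F, i1, i2, hF⟩ := D.fth
  rcases Ex1.enum c.allK (dim_le Y) h.nonab (fth_of hF (inclusion_injective hNT))
    (fun h4 => c.nown (Cl.Cases.hasOwn_of (h.le.trans inf_le_left) h.nrm hN h.nonab h4)) with
    ⟨n, h5, h4, h6, h7⟩ | ⟨x, hx, h5, h6, h7⟩ | ⟨x, hx, h5, -, h6, h7⟩
  · have h8 := List.all_eq_true.1 hA n (List.mem_range.2
      (Nat.lt_succ_of_le (D.alt N (inclusion hNT) (inclusion_injective hNT) n h4)))
    rw [Bool.or_eq_true, Nat.blt_eq] at h8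
    refine one (key (by omega) h0 ?_ (by split_ifs <;> norm_num) (h8.resolve_left (by omega)))
    rw [h7, autA]
    split_ifs with h9
    · subst h9
      decide
    · rw [← h6, Nat.mul_div_cancel_left _ two_pos]
  · have h8 := key h6 h0 (by
      split_ifs with h8
      · rw [spor_M x hx h8] at h5
        obtain ⟨e⟩ := h5
        rw [← H934.OutB.card_out_mul N h.nonab, H934.OutB.card_out_congr e, S2085.result, h6]
      · exact h7) (by split_ifs <;> norm_num) (List.all_eq_true.1 hS x hx)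
    rcases spor_left x hx with h9 | ⟨h9, h10 | h10⟩ | ⟨h9, h10⟩ <;> rw [h9] at h8
    · exact one h8
    · exact no_tits (h10 ▸ h5 : OrdDiv.Real .tits N) hU h8
    · exact no_suz (h10 ▸ h5 : OrdDiv.Real .suz N) hU h8
    · exact no_he (h10 ▸ h5 : OrdDiv.Real .he N) hU h8
  · refine one (key h6 (fun h8 => h5 ?_) h7.dvd (Nat.pos_of_ne_zero fun h8 => ?_) (List.all_eq_true.1 hL x hx))
    · exact (Nat.prime_dvd_prime_iff_eq (prime_of_reg hx) c.prime).1
        ((prime_of_reg hx).dvd_of_dvd_pow (Nat.dvd_of_mod_eq_zero h8))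
    · rw [h8, zero_mul] at h7
      exact Nat.card_pos.ne' h7

theorem noSi_F4 : NoSi fun p T _ => ChevChar Cfsg.Lie.chevF4 0 p T := by
  rintro G _ _ T H N m p c h ⟨F, _, _, _, -, ⟨e⟩⟩
  have := Fact.mk c.prime
  have := c.as.simple
  obtain ⟨f, D⟩ := dat_F4 (p := p) e.symm.isSimpleGroup
  exact (D.congr e).false c h

theorem noSi_E6 : NoSi fun p T _ => ChevChar Cfsg.Lie.chevE6 0 p T := by
  rintro G _ _ T H N m p c h ⟨F, _, _, _, -, ⟨e⟩⟩
  have := Fact.mk c.prime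
  have := c.as.simple
  obtain ⟨f, D⟩ := dat_E6 (p := p) e.symm.isSimpleGroup
  exact (D.congr e).false c h

theorem noSi_E7 : NoSi fun p T _ => ChevChar Cfsg.Lie.chevE7 0 p T := by
  rintro G _ _ T H N m p c h ⟨F, _, _, _, -, ⟨e⟩⟩
  have := Fact.mk c.prime
  have := c.as.simple
  obtain ⟨f, D⟩ := dat_E7 (p := p) e.symm.isSimpleGroup
  exact (D.congr e).false c h

theorem noSi_E8 : NoSi fun p T _ => ChevChar Cfsg.Lie.chevE8 0 p T := by
  rintro G _ _ T H N m p c h ⟨F, _, _, _, -, ⟨e⟩⟩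
  have := Fact.mk c.prime
  have := c.as.simple
  obtain ⟨f, D⟩ := dat_E8 (p := p) e.symm.isSimpleGroup
  exact (D.congr e).false c h

theorem noSi_2E6 : NoSi fun p T _ => ∃ (K : Type) (_ : Field K) (_ : Fintype K) (_ : CharP K p) (q : ℕ), IsPrimePow q ∧
    Fintype.card K = q ^ 2 ∧ Nonempty (T ≃* Cfsg.Lie.twistedE6 K q) := by
  rintro G _ _ T H N m p c h ⟨F, _, _, _, q, hq, hF, ⟨e⟩⟩
  have := Fact.mk c.prime
  have := c.as.simple
  obtain ⟨f, D⟩ := dat_TE6 (p := p) hq hF e.symm.isSimpleGroup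
  exact (D.congr e).false c h

end Cfsg.Agent.TH.Ex.Si
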