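import Cfsg.Agent.H252.EN.Tab

/-!
# S3541, `H ⊓ T` almost simple in `F₄, E₆, ²E₆, E₇, E₈`: the numerical test (helper64)

`Cond Y p f O t k d` : `O = |T|`, `t = |N|`, `t k = |H ⊓ T|`, `d` the subdegree.  `chkT Y t l ou G` : the kernel test for
one group `N` of order `t` (characteristic `l`, `k ∣ ou`) and all `q`; `Cond.dvd_of_chk`.
-/

set_option autoImplicit false

namespace Cfsg.Agent.TH.Ex.Si

open Cfsg.Agent.H902 Cfsg.Agent.H290.ElTab Cfsg.Agent.H290.ElCross Cfsg.Agent.H252.EN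

/-- the families -/
def Zs : List Art.Sh := [.F4, .E6, .TE6, .E7, .E8]

/-- the degrees with their signs, without the degree 2 -/
def dg' : Art.Sh → List (ℕ × Bool)
  | .F4 => [(6, false), (8, false), (12, false)]
  | .E6 => [(5, false), (6, false), (8, false), (9, false), (12, false)]
  | .TE6 => [(5, true), (6, false), (8, false), (9, true), (12, false)]
  | .E7 => [(6, false), (8, false), (10, false), (12, false), (14, false), (18, false)]
  | .E8 => [(8, false), (12, false), (14, false), (18, false), (20, false), (24, false), (30, false)]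
  | _ => []

/-- the degrees with their signs -/
def dg (Y : Art.Sh) : List (ℕ × Bool) := (2, false) :: dg' Y

/-- a factor of the order -/
def fk (x : ℕ) (c : ℕ × Bool) : ℕ := cond c.2 (x ^ c.1 + 1) (x ^ c.1 - 1)

/-- the bound for the centralizers of the semisimple elements of prime order -/
def bY : Art.Sh → ℕ → ℕ
  | .F4, q => q ^ (if q % 2 = 0 then 18 else 32) * (q + 1) ^ 4
  | .E7, q => 2 * (q ^ 72 * (q + 1) ^ 7)
  | .E8, q => q ^ 128 * (q + 1) ^ 8
  | _, q => q ^ 40 * (q + 1) ^ 6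

/-- the same, with the elements of order 5 in `²E₆(2)` -/
def bS (Y : Art.Sh) (q s : ℕ) : ℕ := if Y = .TE6 ∧ q = 2 ∧ s = 5 then 100800 else bY Y q

/-- `q ^ e1` is a lower bound for the indices of the proper subgroups -/
def e1 : Art.Sh → ℕ
  | .F4 => 8
  | .E7 => 17
  | .E8 => 29
  | _ => 11

/-- `q ^ e2 / kk` is a lower bound for the semisimple classes -/
def e2 : Art.Sh → ℕ
  | .F4 => 16
  | .E7 => 54
  | .E8 => 112
  | _ => 32

/-- see `e2` -/
def kk : Art.Sh → ℕ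
  | .F4 => 8
  | .E7 => 128
  | _ => 64

/-- a bound for the number of elements of order `s` -/
def cnt (t k s : ℕ) : ℕ := if k % s = 0 then t * k else if t % (s * s) = 0 then t else t - t / s

/-- the necessary conditions -/
structure Cond (Y : Art.Sh) (p f O t k d : ℕ) : Prop where
  real : Art.Real Y p f O
  opos : 0 < O
  dvd : t * k ∣ O
  d_dvd : d ∣ O / (t * k) - 1
  nd : ¬ p ∣ d
  fac : t ∣ (Nat.gcd t d).factorial
  ss : ∀ s, s.Prime → s ∣ t → ¬ s ∣ d → s ≠ p → O ≤ Nat.gcd t d * cnt t k s * bS Y (p ^ f) s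
  un : p ∣ t → (p ^ f) ^ e1 Y ≤ Nat.gcd t d * (t * k)

/-! ### the test -/

/-- `f i` for `i = lo, lo + 1, …` until `stop i` -/
def allU (stop f : ℕ → Bool) (fuel : ℕ) : ℕ → Bool :=
  Nat.rec (motive := fun _ => ℕ → Bool) (fun _ => false) (fun _ ih i => stop i || (f i && force (Nat.succ i) ih)) fuel

/-- no `q ≡ x` modulo `R` gives the same power of `r` in `|T|` and in `|H ⊓ T|` -/
def nvN (Y : Art.Sh) (r t B R x : ℕ) : Bool :=
  force ((dg Y).map fun c => Nat.gcd (fk x c) R).prod fun P => force (Nat.gcd (Art.dd Y x) r) fun D =>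
    D * B % P != 0 || (((dg Y).all fun c => fk x c % R != 0) && D * t % (r * P) == 0)

/-- the same, refining the modulus -/
def nvR (Y : Art.Sh) (r t B fuel : ℕ) : ℕ → ℕ → Bool :=
  Nat.rec (motive := fun _ => ℕ → ℕ → Bool) (fun _ _ => false)
    (fun _ ih R x => nvN Y r t B R x || force (R * r) fun R' => (List.range r).all fun j => force (x + R * j) (ih R'))
    fuel

/-- the prime `r` does not divide the subdegree -/
def nv (Y : Art.Sh) (r t B : ℕ) : Bool := (List.range r).all fun x => x == 0 || nvR Y r t B 20 r x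

/-- the test for `|H ⊓ T| = t k`, `|T| = O` -/
def dead (Y : Art.Sh) (q t k G O : ℕ) : Bool :=
  O % (t * k) != 0 || force (O / (t * k) - 1) fun n => force (Nat.gcd t n) fun g =>
    G % g == 0 || ((Nat.ble g 100 && g.factorial % t != 0) ||
      prs.any fun s => t % s == 0 && (n % s != 0 && (q % s != 0 && Nat.blt (g * cnt t k s * bS Y q s) O)))

/-- the test for one `q` -/
def deadQ (Y : Art.Sh) (t l ou G q : ℕ) : Bool :=
  q % l == 0 || force (q ^ Art.NN Y * Art.num Y q / Art.dd Y q) fun O =>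
    O % t != 0 || (List.range ou).all fun k => ou % (k + 1) != 0 || dead Y q t (k + 1) G O

/-- the primes which do not divide the subdegree are removed from `g` -/
def strip (Y : Art.Sh) (t B : ℕ) (F : ℕ → ℕ → Bool) : List ℕ → ℕ → ℕ → Bool
  | [], s, g => F s g
  | r :: L, s, g => cond (t % r == 0 && nv Y r t B) (force (g / Nat.gcd g (r ^ 100)) (strip Y t B F L r))
      (strip Y t B F L s g)

/-- the small primes -/
def sm : List ℕ := [2, 3, 5, 7, 11, 13, 17, 19, 23, 29, 31, 37, 41, 43, 47, 53, 59, 61, 67, 71, 73, 79]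

/-- the test for one group -/
def chkT (Y : Art.Sh) (t l ou G : ℕ) : Bool :=
  force t fun t => force ou fun ou => force (t * ou) fun B =>
    strip Y t B (fun s g => s != 0 && force (g * B) fun C => force (kk Y * C) fun C' =>
      allU (fun q => Nat.blt C' (q ^ e2 Y)) (deadQ Y t l ou G) 100000 2 &&
        allU (fun f => Nat.blt C ((s ^ f) ^ e1 Y)) (fun f => force (s ^ f) (deadQ Y t l ou G)) 1000 1) sm 0 t

/-! ### soundness -/

theorem allU_sound {stop f : ℕ → Bool} {fuel lo : ℕ} (h : allU stop f fuel lo = true) {i : ℕ} (h1 : lo ≤ i)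
    (h2 : ∀ j, j ≤ i → stop j = false) : f i = true := by
  induction fuel generalizing lo with
  | zero => exact absurd h Bool.false_ne_true
  | succ k ih =>
    have h3 : (stop lo || (f lo && force (Nat.succ lo) (allU stop f k))) = true := h
    rw [h2 lo h1, Bool.false_or, Bool.and_eq_true, force_eq] at h3
    rcases Nat.eq_or_lt_of_le h1 with rfl | h4
    · exact h3.1
    · exact ih h3.2 h4

theorem num_eq {Y : Art.Sh} (hY : Y ∈ Zs) (q : ℕ) : Art.num Y q = ((dg Y).map (fk q)).prod := by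
  simp only [Zs, List.mem_cons, List.not_mem_nil, or_false] at hY
  rcases hY with rfl | rfl | rfl | rfl | rfl <;>
    simp only [Art.num, dg, dg', fk, List.map_cons, List.map_nil, List.prod_cons, List.prod_nil, cond_true,
      cond_false, mul_one, mul_assoc]

theorem fk_modEq {q x R : ℕ} (hq : 1 ≤ q) (hx : 1 ≤ x) (h : x ≡ q [MOD R]) (c : ℕ × Bool) :
    fk x c ≡ fk q c [MOD R] := by
  obtain ⟨k, b⟩ := c
  cases b
  · exact Nat.ModEq.sub (Nat.one_le_pow _ _ hx) (Nat.one_le_pow _ _ hq) (h.pow k) rfl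
  · exact (h.pow k).add_right 1

theorem prod_gcd_dvd (L : List ℕ) (R : ℕ) : (L.map fun a => Nat.gcd a R).prod ∣ L.prod := by
  induction L with
  | nil => simp
  | cons a L ih =>
    rw [List.map_cons, List.prod_cons, List.prod_cons]
    exact mul_dvd_mul (Nat.gcd_dvd_left _ _) ih

theorem prod_gcd_coprime (L : List ℕ) {R n : ℕ} (h : Nat.Coprime R n) :
    Nat.Coprime (L.map fun a => Nat.gcd a R).prod n := by
  induction L with
  | nil => simp
  | cons a L ih =>
    rw [List.map_cons, List.prod_cons]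
    exact Nat.Coprime.mul_left (h.coprime_dvd_left (Nat.gcd_dvd_right _ _)) ih

theorem exists_of_not_dvd {r i a : ℕ} (hr : r.Prime) (h : ¬ r ^ i ∣ a) : ∃ m, a = Nat.gcd a (r ^ i) * m ∧ ¬ r ∣ m := by
  obtain ⟨m, hm⟩ := Nat.gcd_dvd_left a (r ^ i)
  refine ⟨m, hm, fun h1 => ?_⟩
  obtain ⟨j, hj, h2⟩ := (Nat.dvd_prime_pow hr).1 (Nat.gcd_dvd_right a (r ^ i))
  rcases Nat.eq_or_lt_of_le hj with rfl | h3
  · exact h (h2 ▸ Nat.gcd_dvd_left a _)
  · have h4 : r ^ (j + 1) ∣ a := by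
      rw [hm, h2, pow_succ]
      exact Nat.mul_dvd_mul_left _ h1
    have h5 := Nat.dvd_gcd h4 (pow_dvd_pow r h3)
    rw [h2] at h5
    have := (Nat.pow_dvd_pow_iff_le_right hr.one_lt).1 h5
    omega

theorem exists_prod {r i : ℕ} (hr : r.Prime) (L : List ℕ) (h : ∀ a ∈ L, ¬ r ^ i ∣ a) :
    ∃ m, L.prod = (L.map fun a => Nat.gcd a (r ^ i)).prod * m ∧ ¬ r ∣ m := by
  induction L with
  | nil => exact ⟨1, by simp, hr.one_lt.ne' ∘ Nat.dvd_one.1⟩
  | cons a L ih =>
    obtain ⟨m, h1, h2⟩ := ih fun b hb => h b (List.mem_cons_of_mem _ hb)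
    obtain ⟨m', h3, h4⟩ := exists_of_not_dvd hr (h a List.mem_cons_self)
    refine ⟨m' * m, ?_, fun h5 => ((Nat.Prime.dvd_mul hr).1 h5).elim h4 h2⟩
    rw [List.map_cons, List.prod_cons, List.prod_cons]
    calc a * L.prod = (Nat.gcd a (r ^ i) * m') * ((L.map fun a => Nat.gcd a (r ^ i)).prod * m) := by rw [← h1, ← h3]
      _ = _ := by ring

theorem gcd_split {c r a b : ℕ} (hc : c.Prime) (hr : r.Prime) (h : a ≡ b [MOD r]) :
    ∃ D, Nat.gcd c b = Nat.gcd (Nat.gcd c a) r * D ∧ Nat.Coprime r D := by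
  by_cases h1 : r = c
  · subst h1
    refine ⟨1, ?_, Nat.coprime_one_right _⟩
    rw [mul_one, Nat.gcd_eq_left (Nat.gcd_dvd_left r a), Nat.gcd_comm, Nat.gcd_comm r a]
    exact h.gcd_eq.symm
  · have h2 : Nat.Coprime c r := (Nat.coprime_primes hc hr).2 (Ne.symm h1)
    refine ⟨Nat.gcd c b, ?_, (h2.coprime_dvd_left (Nat.gcd_dvd_left c b)).symm⟩
    rw [show Nat.gcd (Nat.gcd c a) r = 1 from h2.coprime_dvd_left (Nat.gcd_dvd_left c a), one_mul]

theorem dd_split {Y : Art.Sh} (hY : Y ∈ Zs) {r x q : ℕ} (hr : r.Prime) (hq : 1 ≤ q) (hx : 1 ≤ x)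
    (h : x ≡ q [MOD r]) : ∃ D, Art.dd Y q = Nat.gcd (Art.dd Y x) r * D ∧ Nat.Coprime r D := by
  simp only [Zs, List.mem_cons, List.not_mem_nil, or_false] at hY
  rcases hY with rfl | rfl | rfl | rfl | rfl
  · exact ⟨1, by simp [Art.dd], Nat.coprime_one_right _⟩
  · exact gcd_split Nat.prime_three hr (Nat.ModEq.sub hx hq h rfl)
  · exact gcd_split Nat.prime_three hr (h.add_right 1)
  · exact gcd_split Nat.prime_two hr (Nat.ModEq.sub hx hq h rfl)
  · exact ⟨1, by simp [Art.dd], Nat.coprime_one_right _⟩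

section nv

variable {Y : Art.Sh} (hY : Y ∈ Zs) {r t k ou q n : ℕ} (hr : r.Prime) (hq : ¬ r ∣ q) (hk : k ∣ ou)
  (hO : Art.dd Y q * (t * k * n) = q ^ Art.NN Y * Art.num Y q) (hn : ¬ r ∣ n)

include hY hr hq hk hO hn

theorem nvN_false {i : ℕ} : nvN Y r t (t * ou) (r ^ (i + 1)) (q % r ^ (i + 1)) = false := by
  have hR : r ∣ r ^ (i + 1) := dvd_pow_self r i.succ_ne_zero
  have hq1 : 1 ≤ q := Nat.pos_of_ne_zero fun h => hq (h ▸ dvd_zero r)
  have hm : q % r ^ (i + 1) ≡ q [MOD r ^ (i + 1)] := Nat.mod_modEq _ _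
  have hx : 1 ≤ q % r ^ (i + 1) := Nat.pos_of_ne_zero fun h => hq (hR.trans (Nat.dvd_of_mod_eq_zero h))
  obtain ⟨D', h1, h2⟩ := dd_split hY hr hq1 hx (hm.of_dvd hR)
  have h3 : ((dg Y).map fun c => Nat.gcd (fk (q % r ^ (i + 1)) c) (r ^ (i + 1))) =
      ((dg Y).map (fk q)).map fun a => Nat.gcd a (r ^ (i + 1)) := by
    rw [List.map_map]
    exact List.map_congr_left fun c _ => (fk_modEq hq1 hx hm c).gcd_eq
  have hrq : Nat.Coprime r q := hr.coprime_iff_not_dvd.2 hq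
  have hrn : Nat.Coprime r n := hr.coprime_iff_not_dvd.2 hn
  rw [nvN, force_eq, force_eq, h3]
  rw [h1, num_eq hY] at hO
  generalize Nat.gcd (Art.dd Y (q % r ^ (i + 1))) r = D at *
  rw [Bool.or_eq_false_iff, Bool.and_eq_false_iff]
  constructor
  · have h4 := (prod_gcd_dvd ((dg Y).map (fk q)) (r ^ (i + 1))).mul_left (q ^ Art.NN Y)
    rw [← hO, show D * D' * (t * k * n) = D * (t * k) * (D' * n) by ring] at h4
    have h5 := (prod_gcd_coprime _ ((h2.mul_right hrn).pow_left (i + 1))).dvd_of_dvd_mul_right h4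
    rw [Nat.mod_eq_zero_of_dvd (h5.trans (Nat.mul_dvd_mul_left _ (Nat.mul_dvd_mul_left _ hk)))]
    rfl
  · by_contra h4
    rw [not_or, Bool.not_eq_false, Bool.not_eq_false, List.all_eq_true, beq_iff_eq] at h4
    obtain ⟨m, h5, h6⟩ := exists_prod (i := i + 1) hr ((dg Y).map (fk q)) fun a ha h => by
      obtain ⟨c, hc, rfl⟩ := List.mem_map.1 ha
      have h7 := h4.1 c hc
      rw [(fk_modEq hq1 hx hm c : _ = _), Nat.mod_eq_zero_of_dvd h] at h7
      exact absurd h7 (by decide)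
    have h7 := Nat.dvd_of_mod_eq_zero h4.2
    have h0 : 0 < (((dg Y).map (fk q)).map fun a => Nat.gcd a (r ^ (i + 1))).prod :=
      List.prod_pos fun a ha => by
        obtain ⟨b, -, rfl⟩ := List.mem_map.1 ha
        exact Nat.gcd_pos_of_pos_right _ (pow_pos hr.pos _)
    rw [h5] at hO
    generalize (((dg Y).map (fk q)).map fun a => Nat.gcd a (r ^ (i + 1))).prod = P at *
    have h8 : r * P ∣ q ^ Art.NN Y * m * P := by
      rw [show q ^ Art.NN Y * m * P = q ^ Art.NN Y * (P * m) by ring, ← hO,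
        show D * D' * (t * k * n) = D * t * (D' * k * n) by ring]
      exact h7.mul_right _
    exact h6 ((hrq.pow_right _).dvd_of_dvd_mul_left (Nat.dvd_of_mul_dvd_mul_right h0 h8))

theorem nvR_false (fuel i : ℕ) : nvR Y r t (t * ou) fuel (r ^ (i + 1)) (q % r ^ (i + 1)) = false := by
  induction fuel generalizing i with
  | zero => rfl
  | succ a ih =>
    show (nvN Y r t (t * ou) (r ^ (i + 1)) (q % r ^ (i + 1)) || force (r ^ (i + 1) * r) fun R' =>
      (List.range r).all fun j => force (q % r ^ (i + 1) + r ^ (i + 1) * j) (nvR Y r t (t * ou) a R')) = false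
    rw [nvN_false hY hr hq hk hO hn, Bool.false_or, force_eq, List.all_eq_false]
    refine ⟨q / r ^ (i + 1) % r, List.mem_range.2 (Nat.mod_lt _ hr.pos), ?_⟩
    rw [force_eq, ← Nat.mod_mul, ← pow_succ, ih]
    exact Bool.false_ne_true

theorem nv_false : nv Y r t (t * ou) = false := by
  rw [nv, List.all_eq_false]
  refine ⟨q % r, List.mem_range.2 (Nat.mod_lt _ hr.pos), ?_⟩
  have h1 := nvR_false hY hr hq hk hO hn 20 0
  rw [zero_add, pow_one] at h1
  rw [h1, Bool.or_false, beq_iff_eq]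
  exact fun h => hq (Nat.dvd_of_mod_eq_zero h)

end nv

/-! ### the lower bound for the semisimple classes -/

theorem fk_ge {q : ℕ} (hq : 2 ≤ q) {c : ℕ × Bool} (hc : 5 ≤ c.1) : 31 * q ^ c.1 ≤ 32 * fk q c := by
  obtain ⟨k, b⟩ := c
  have h1 : 2 ^ 5 ≤ q ^ k := (Nat.pow_le_pow_left hq 5).trans (Nat.pow_le_pow_right (by omega) hc)
  cases b
  · show 31 * q ^ k ≤ 32 * (q ^ k - 1)
    omega
  · show 31 * q ^ k ≤ 32 * (q ^ k + 1)
    omega

theorem prod_ge {q : ℕ} (hq : 2 ≤ q) (L : List (ℕ × Bool)) (h : ∀ c ∈ L, 5 ≤ c.1) :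
    31 ^ L.length * q ^ (L.map Prod.fst).sum ≤ 32 ^ L.length * (L.map (fk q)).prod := by
  induction L with
  | nil => simp
  | cons c L ih =>
    have h1 := Nat.mul_le_mul (fk_ge hq (h c List.mem_cons_self)) (ih fun b hb => h b (List.mem_cons_of_mem _ hb))
    rw [List.length_cons, List.map_cons, List.map_cons, List.sum_cons, List.prod_cons]
    calc _ = 31 * q ^ c.1 * (31 ^ L.length * q ^ (L.map Prod.fst).sum) := by ring
      _ ≤ _ := h1
      _ = _ := by ring

theorem low_gen {q c e u l N j S K P : ℕ} (hq : 2 ≤ q) (h1 : 31 ^ j * q ^ S ≤ 32 ^ j * P) (h2 : e + u + l = N + 2 + S)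
    (h3 : c * 3 ^ l * 4 * 32 ^ j ≤ K * (2 ^ l * 3 * 31 ^ j)) :
    c * (q ^ e * (q ^ u * (q + 1) ^ l)) ≤ K * (q ^ N * ((q ^ 2 - 1) * P)) := by
  have h4 : (2 * (q + 1)) ^ l ≤ (3 * q) ^ l := Nat.pow_le_pow_left (by omega) l
  have h5 : 3 * q ^ 2 ≤ 4 * (q ^ 2 - 1) := by
    have : 2 ^ 2 ≤ q ^ 2 := Nat.pow_le_pow_left hq 2
    omega
  refine Nat.le_of_mul_le_mul_left (c := 2 ^ l * 3 * 31 ^ j) ?_ (by positivity)
  calc _ = c * 3 * 31 ^ j * q ^ (e + u) * (2 * (q + 1)) ^ l := by rw [mul_pow 2]; ring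
    _ ≤ c * 3 * 31 ^ j * q ^ (e + u) * (3 * q) ^ l := Nat.mul_le_mul_left _ h4
    _ = c * 3 * 31 ^ j * 3 ^ l * q ^ (e + u + l) := by ring
    _ = c * 3 ^ l * q ^ N * ((3 * q ^ 2) * (31 ^ j * q ^ S)) := by rw [h2]; ring
    _ ≤ c * 3 ^ l * q ^ N * ((4 * (q ^ 2 - 1)) * (32 ^ j * P)) := Nat.mul_le_mul_left _ (Nat.mul_le_mul h5 h1)
    _ = c * 3 ^ l * 4 * 32 ^ j * (q ^ N * ((q ^ 2 - 1) * P)) := by ring
    _ ≤ K * (2 ^ l * 3 * 31 ^ j) * (q ^ N * ((q ^ 2 - 1) * P)) := Nat.mul_le_mul_right _ h3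
    _ = _ := by ring

theorem low {Y : Art.Sh} (hY : Y ∈ Zs) {q : ℕ} (hq : 2 ≤ q) :
    Art.dd Y q * (q ^ e2 Y * bY Y q) ≤ kk Y * (q ^ Art.NN Y * Art.num Y q) := by
  rw [num_eq hY]
  have h := prod_ge hq (dg' Y) (by
    revert Y
    decide)
  simp only [Zs, List.mem_cons, List.not_mem_nil, or_false] at hY
  rcases hY with rfl | rfl | rfl | rfl | rfl
  · refine le_trans ?_ (low_gen (c := 1) (e := 16) (u := 32) (l := 4) hq h (by decide) (by decide))
    refine Nat.mul_le_mul_left _ (Nat.mul_le_mul_left _ (Nat.mul_le_mul_right _ ?_))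
    exact Nat.pow_le_pow_right (by omega) (by split_ifs <;> omega)
  · exact le_trans (Nat.mul_le_mul_right _ (Nat.gcd_le_left _ three_pos))
      (low_gen (c := 3) (e := 32) (u := 40) (l := 6) hq h (by decide) (by decide))
  · exact le_trans (Nat.mul_le_mul_right _ (Nat.gcd_le_left _ three_pos))
      (low_gen (c := 3) (e := 32) (u := 40) (l := 6) hq h (by decide) (by decide))
  · refine le_trans ?_ (low_gen (c := 4) (e := 54) (u := 72) (l := 7) hq h (by decide) (by decide))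
    refine le_trans (Nat.mul_le_mul_right _ (Nat.gcd_le_left _ two_pos)) (le_of_eq ?_)
    show 2 * (q ^ 54 * (2 * (q ^ 72 * (q + 1) ^ 7))) = _
    ring
  · exact low_gen (c := 1) (e := 112) (u := 128) (l := 8) hq h (by decide) (by decide)

theorem bS_le (Y : Art.Sh) (q s : ℕ) : bS Y q s ≤ bY Y q := by
  unfold bS
  split_ifs with h
  · obtain ⟨rfl, rfl, -⟩ := h
    decide
  · exact le_rfl

theorem cnt_le {t k : ℕ} (hk : 0 < k) (s : ℕ) : cnt t k s ≤ t * k := by
  have := Nat.le_mul_of_pos_right t hk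
  unfold cnt
  split_ifs
  · exact le_rfl
  · exact this
  · exact (Nat.sub_le _ _).trans this

theorem e_pos (Y : Art.Sh) : 0 < e1 Y ∧ 0 < e2 Y := by
  cases Y <;> exact ⟨by simp [e1], by simp [e2]⟩

namespace Cond

variable {Y : Art.Sh} {p f O t k d : ℕ} (c : Cond Y p f O t k d)

include c

theorem tk_pos : 0 < t * k := Nat.pos_of_dvd_of_pos c.dvd c.opos

theorem t_pos : 0 < t := Nat.pos_of_mul_pos_right c.tk_pos

theorem k_pos : 0 < k := Nat.pos_of_mul_pos_left c.tk_pos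

theorem two_le : 2 ≤ p ^ f := c.real.hp.two_le.trans (Nat.le_self_pow (by have := c.real.hf; omega) p)

theorem not_dvd_q {r : ℕ} (hr : r.Prime) (h : r ≠ p) : ¬ r ∣ p ^ f := fun h1 =>
  h ((Nat.prime_dvd_prime_iff_eq hr c.real.hp).1 (hr.dvd_of_dvd_pow h1))

theorem not_dvd_d (hY : Y ∈ Zs) {r ou : ℕ} (hr : r.Prime) (hk : k ∣ ou) (h : nv Y r t (t * ou) = true) : ¬ r ∣ d := by
  by_cases h1 : r = p
  · exact h1 ▸ c.nd
  intro h2
  have h3 := c.real.eq
  rw [← Nat.mul_div_cancel' c.dvd] at h3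
  have h4 : 0 < O / (t * k) := Nat.div_pos (Nat.le_of_dvd c.opos c.dvd) c.tk_pos
  have h5 : ¬ r ∣ O / (t * k) := fun h6 => by
    have h7 := Nat.dvd_sub h6 (h2.trans c.d_dvd)
    rw [Nat.sub_sub_self h4] at h7
    exact hr.one_lt.ne' (Nat.dvd_one.1 h7)
  rw [nv_false hY hr (c.not_dvd_q hr h1) hk h3 h5] at h
  exact Bool.false_ne_true h

theorem dvd_of_dead {G : ℕ} (h : dead Y (p ^ f) t k G O = true) : Nat.gcd t d ∣ G := by
  have h1 : Nat.gcd t d ∣ Nat.gcd t (O / (t * k) - 1) := Nat.gcd_dvd_gcd_of_dvd_right _ c.d_dvd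
  have h2 := Nat.le_of_dvd (Nat.gcd_pos_of_pos_left _ c.t_pos) h1
  rw [dead, force_eq, force_eq, Nat.mod_eq_zero_of_dvd c.dvd] at h
  simp only [bne_self_eq_false, Bool.false_or, Bool.or_eq_true, Bool.and_eq_true, beq_iff_eq, List.any_eq_true,
    bne_iff_ne, Nat.blt_eq] at h
  rcases h with h | h | ⟨s, hs, h3, h4, h5, h6⟩
  · exact h1.trans (Nat.dvd_of_mod_eq_zero h)
  · exact absurd (Nat.mod_eq_zero_of_dvd (c.fac.trans (Nat.factorial_dvd_factorial h2))) h.2
  · have h7 := c.ss s (prs_prime s hs) (Nat.dvd_of_mod_eq_zero h3)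
      (fun h8 => h4 (Nat.mod_eq_zero_of_dvd (h8.trans c.d_dvd))) fun h8 => h5 (Nat.mod_eq_zero_of_dvd (by
        rw [h8]
        exact dvd_pow_self p (by have := c.real.hf; omega)))
    have h8 := Nat.mul_le_mul_right (bS Y (p ^ f) s) (Nat.mul_le_mul_right (cnt t k s) h2)
    omega

theorem dvd_of_deadQ {l ou G : ℕ} (hl : p ^ f % l ≠ 0) (hk : k ∣ ou) (h0 : 0 < ou)
    (h : deadQ Y t l ou G (p ^ f) = true) : Nat.gcd t d ∣ G := by
  have h1 : (p ^ f) ^ Art.NN Y * Art.num Y (p ^ f) / Art.dd Y (p ^ f) = O := by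
    rw [← c.real.eq, Nat.mul_div_cancel_left _ (real_pos c.real)]
  rw [deadQ, force_eq, h1, Nat.mod_eq_zero_of_dvd (Dvd.dvd.trans (Dvd.intro _ rfl) c.dvd)] at h
  simp only [bne_self_eq_false, Bool.false_or, Bool.or_eq_true, beq_iff_eq, List.all_eq_true, List.mem_range,
    bne_iff_ne] at h
  have h2 := c.k_pos
  have h3 := Nat.le_of_dvd h0 hk
  have h4 := (h.resolve_left hl) (k - 1) (by omega)
  rw [Nat.sub_add_cancel h2] at h4
  exact c.dvd_of_dead (h4.resolve_left fun h5 => h5 (Nat.mod_eq_zero_of_dvd hk))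

theorem of_strip (hY : Y ∈ Zs) {ou : ℕ} (hk : k ∣ ou) {F : ℕ → ℕ → Bool} (L : List ℕ) (hL : ∀ r ∈ L, r.Prime)
    {s g : ℕ} (hs : s = 0 ∨ (s.Prime ∧ s ∣ t ∧ ¬ s ∣ d)) (hg : Nat.gcd t d ∣ g) (h0 : 0 < g)
    (h : strip Y t (t * ou) F L s g = true) :
    ∃ s g, (s = 0 ∨ (s.Prime ∧ s ∣ t ∧ ¬ s ∣ d)) ∧ Nat.gcd t d ≤ g ∧ F s g = true := by
  induction L generalizing s g with
  | nil => exact ⟨s, g, hs, Nat.le_of_dvd h0 hg, h⟩
  | cons r L ih =>
    have hL' : ∀ a ∈ L, a.Prime := fun a ha => hL a (List.mem_cons_of_mem _ ha)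
    have hr := hL r List.mem_cons_self
    rw [strip] at h
    cases h1 : (t % r == 0 && nv Y r t (t * ou))
    · rw [h1, cond_false] at h
      exact ih hL' hs hg h0 h
    · rw [h1, cond_true, force_eq] at h
      rw [Bool.and_eq_true, beq_iff_eq] at h1
      have h2 := c.not_dvd_d hY hr hk h1.2
      have h3 : Nat.Coprime (Nat.gcd t d) (Nat.gcd g (r ^ 100)) :=
        ((hr.coprime_iff_not_dvd.2 fun h4 => h2 (h4.trans (Nat.gcd_dvd_right t d))).symm.pow_right 100).coprime_dvd_right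
          (Nat.gcd_dvd_right _ _)
      refine ih hL' (Or.inr ⟨hr, Nat.dvd_of_mod_eq_zero h1.1, h2⟩) (h3.dvd_of_dvd_mul_left ?_)
        (Nat.div_pos (Nat.gcd_le_left _ h0) (Nat.gcd_pos_of_pos_left _ h0)) h
      rw [Nat.mul_div_cancel' (Nat.gcd_dvd_left _ _)]
      exact hg

/-- **the test is sound** -/
theorem dvd_of_chk (hY : Y ∈ Zs) {l ou G : ℕ} (hl : p ^ f % l ≠ 0) (hk : k ∣ ou) (h0 : 0 < ou)
    (h : chkT Y t l ou G = true) : Nat.gcd t d ∣ G := by
  rw [chkT, force_eq, force_eq, force_eq] at h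
  obtain ⟨s, g, h1, h2, h3⟩ := c.of_strip hY hk sm (by decide) (Or.inl rfl) (Nat.gcd_dvd_left t d) c.t_pos h
  rw [Bool.and_eq_true, force_eq, force_eq, Bool.and_eq_true, bne_iff_ne] at h3
  obtain ⟨hs, h4, h5⟩ := h1.resolve_left h3.1
  have h6 : Nat.gcd t d * (t * k) ≤ g * (t * ou) :=
    Nat.mul_le_mul h2 (Nat.mul_le_mul_left _ (Nat.le_of_dvd h0 hk))
  refine c.dvd_of_deadQ hl hk h0 ?_
  by_cases hp : s = p
  · subst hp
    have h7 := allU_sound h3.2.2 c.real.hf fun j hj => by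
      rw [Bool.eq_false_iff, Ne, Nat.blt_eq, not_lt]
      exact (Nat.pow_le_pow_left (Nat.pow_le_pow_right hs.pos hj) _).trans ((c.un h4).trans h6)
    rwa [force_eq] at h7
  · refine allU_sound h3.2.1 c.two_le fun j hj => ?_
    rw [Bool.eq_false_iff, Ne, Nat.blt_eq, not_lt]
    refine (Nat.pow_le_pow_left hj _).trans ?_
    have h7 : O ≤ g * (t * ou) * bY Y (p ^ f) := (c.ss s hs h4 h5 hp).trans
      (Nat.mul_le_mul ((Nat.mul_le_mul_left _ (cnt_le c.k_pos s)).trans h6) (bS_le _ _ _))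
    have h8 := low hY c.two_le
    rw [← c.real.eq, mul_left_comm (kk Y)] at h8
    have h9 := (Nat.le_of_mul_le_mul_left h8 (real_pos c.real)).trans (Nat.mul_le_mul_left _ h7)
    have h10 : 0 < bY Y (p ^ f) := Nat.pos_of_mul_pos_left (c.opos.trans_le h7)
    rw [← mul_assoc] at h9
    exact Nat.le_of_mul_le_mul_right h9 h10

end Cond

end Cfsg.Agent.TH.Ex.Si
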